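import Groth.Prelude.Def_VecGrp
import Mathlib.RingTheory.Localization.BaseChange
import Mathlib.RingTheory.Flat.Stability
import Mathlib.LinearAlgebra.TensorProduct.Pi
import Mathlib.AlgebraicGeometry.Morphisms.Flat

/-!
# Stable submodules of modules over group schemes
-/

set_option autoImplicit false
universe u

open CategoryTheory AlgebraicGeometry TensorProduct MonObj VecGrp

noncomputable section

namespace GrothLib.GModStable14

variable {R : Type u} [CommRing R] {E : Type u} [AddCommGroup E] [Module R E]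

theorem mem_range_iff (N : Submodule R E) {B : Type u} [CommRing B] [Algebra R B] (z : B ⊗[R] E) :
    z ∈ LinearMap.range (N.subtype.baseChange B) ↔ N.mkQ.lTensor B z = 0 :=
  ((lTensor_exact B (LinearMap.exact_subtype_mkQ N) N.mkQ_surjective) z).symm

theorem mkQ_Wmap (N : Submodule R E) {B B' : Type u} [CommRing B] [Algebra R B] [CommRing B'] [Algebra R B']
    (φ : B →ₐ[R] B') (z : B ⊗[R] E) : Wmap φ (N.mkQ.lTensor B z) = N.mkQ.lTensor B' (Wmap φ z) :=
  baseChange_natural N.mkQ φ z

theorem Wmap_mem_range (N : Submodule R E) {B B' : Type u} [CommRing B] [Algebra R B] [CommRing B'] [Algebra R B']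
    (φ : B →ₐ[R] B') {z : B ⊗[R] E} (hz : z ∈ LinearMap.range (N.subtype.baseChange B)) :
    Wmap φ z ∈ LinearMap.range (N.subtype.baseChange B') := by
  rw [mem_range_iff] at hz ⊢
  rw [← mkQ_Wmap, hz, map_zero]

/-- Membership in the image of a submodule is local. -/
theorem mem_range_of_local (N : Submodule R E) {B : Type u} [CommRing B] [Algebra R B] (z : B ⊗[R] E)
    (h : ∀ p : PrimeSpectrum B, ∃ f : B, f ∉ p.asIdeal ∧
      Wmap (IsScalarTower.toAlgHom R B (Localization.Away f)) z ∈
        LinearMap.range (N.subtype.baseChange (Localization.Away f))) :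
    z ∈ LinearMap.range (N.subtype.baseChange B) := by
  rw [mem_range_iff]
  by_contra hne
  obtain ⟨m, hm, hle⟩ := Ideal.exists_le_maximal
    (LinearMap.ker (LinearMap.toSpanSingleton B _ (N.mkQ.lTensor B z))) (fun htop => hne (by
      have : (1 : B) ∈ LinearMap.ker (LinearMap.toSpanSingleton B _ (N.mkQ.lTensor B z)) := htop ▸ trivial
      simpa using this))
  obtain ⟨f, hf, hz⟩ := h ⟨m, hm.isPrime⟩
  rw [mem_range_iff, ← mkQ_Wmap] at hz
  let Bf := Localization.Away f
  let w := N.mkQ.lTensor B z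
  have key : ∀ v : B ⊗[R] (E ⧸ N), AlgebraTensorModule.cancelBaseChange R B B Bf (E ⧸ N) ((1 : Bf) ⊗ₜ[B] v) =
      Wmap (IsScalarTower.toAlgHom R B Bf) v := by
    intro v
    induction v using TensorProduct.induction_on with
    | zero => simp
    | add a b ha hb => simp only [tmul_add, map_add, ha, hb]
    | tmul b q =>
      rw [AlgebraTensorModule.cancelBaseChange_tmul, Wmap_tmul, IsScalarTower.coe_toAlgHom', Algebra.smul_def, _root_.mul_one]
  have h1 : (TensorProduct.mk B Bf (B ⊗[R] (E ⧸ N)) 1) w = 0 :=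
    (AlgebraTensorModule.cancelBaseChange R B B Bf (E ⧸ N)).injective (by rw [map_zero]; exact (key w).trans hz)
  obtain ⟨⟨_, n, rfl⟩, hn⟩ := (IsLocalizedModule.eq_zero_iff (Submonoid.powers f)
    (TensorProduct.mk B Bf (B ⊗[R] (E ⧸ N)) 1)).1 h1
  have : f ^ n ∈ m := hle (by simpa [LinearMap.mem_ker, LinearMap.toSpanSingleton_apply, w, Submonoid.smul_def] using hn)
  exact hf (hm.isPrime.mem_of_pow_mem n this)

theorem exists_fg_mem_range {B : Type u} [CommRing B] [Algebra R B] (z : B ⊗[R] E) :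
    ∃ F : Submodule R E, F.FG ∧ z ∈ LinearMap.range (F.subtype.baseChange B) := by
  induction z using TensorProduct.induction_on with
  | zero => exact ⟨⊥, Submodule.fg_bot, zero_mem _⟩
  | tmul b e =>
    exact ⟨Submodule.span R {e}, Submodule.fg_span_singleton e,
      b ⊗ₜ ⟨e, Submodule.mem_span_singleton_self e⟩, rfl⟩
  | add a b ha hb =>
    obtain ⟨F, hF, hFa⟩ := ha
    obtain ⟨F', hF', hFb⟩ := hb
    refine ⟨F ⊔ F', hF.sup hF', ?_⟩
    have mono : ∀ {F G : Submodule R E}, F ≤ G → ∀ {x : B ⊗[R] E},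
        x ∈ LinearMap.range (F.subtype.baseChange B) → x ∈ LinearMap.range (G.subtype.baseChange B) := by
      rintro F G h x ⟨y, rfl⟩
      exact ⟨(Submodule.inclusion h).baseChange B y, by
        rw [← LinearMap.comp_apply, ← LinearMap.baseChange_comp, Submodule.subtype_comp_inclusion]⟩
    exact add_mem (mono le_sup_left hFa) (mono le_sup_right hFb)

variable {G : Over (Spec (CommRingCat.of R))}

theorem exists_ptMap {B B' : Type u} [CommRing B] [Algebra R B] [CommRing B'] [Algebra R B']
    (t : pt R B' ⟶ pt R B) : ∃ φ : B →ₐ[R] B', t = ptMap φ := by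
  obtain ⟨f, hf⟩ := Spec.map_surjective t.left
  have w : Spec.map f ≫ Spec.map (CommRingCat.ofHom (algebraMap R B)) =
      Spec.map (CommRingCat.ofHom (algebraMap R B')) := by rw [hf]; exact Over.w t
  rw [← Spec.map_comp] at w
  exact ⟨{ f.hom with commutes' := fun r => congr($(Spec.map_injective w).hom r) }, Over.OverMorphism.ext hf.symm⟩

/-- An affine open as a point. -/
theorem exists_chart_pt (U : G.left.Opens) (hU : IsAffineOpen U) :
    ∃ (B : CommRingCat.{u}) (_ : Algebra R B) (v : pt R B ⟶ G), IsOpenImmersion v.left ∧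
      Set.range v.left.base = (U : Set G.left) := by
  letI : Algebra R Γ(G.left, U) := (Spec.preimage (hU.fromSpec ≫ G.hom)).hom.toAlgebra
  refine ⟨Γ(G.left, U), inferInstance, Over.homMk hU.fromSpec ?_, hU.isOpenImmersion_fromSpec, hU.range_fromSpec⟩
  show hU.fromSpec ≫ G.hom = Spec.map (CommRingCat.ofHom (algebraMap R Γ(G.left, U)))
  rw [RingHom.algebraMap_toAlgebra, CommRingCat.ofHom_hom, Spec.map_preimage]

/-- Points factor locally through charts. -/
theorem exists_local_factor {B B₀ : Type u} [CommRing B] [Algebra R B] [CommRing B₀] [Algebra R B₀]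
    (g : pt R B ⟶ G) (v : pt R B₀ ⟶ G) [IsOpenImmersion v.left] (p : PrimeSpectrum B)
    (hp : g.left.base p ∈ Set.range v.left.base) :
    ∃ f : B, f ∉ p.asIdeal ∧ ∃ φ : B₀ →ₐ[R] Localization.Away f,
      ptMap (IsScalarTower.toAlgHom R B (Localization.Away f)) ≫ g = ptMap φ ≫ v := by
  have hW : IsOpen (g.left.base ⁻¹' Set.range v.left.base) :=
    v.left.isOpenEmbedding.isOpen_range.preimage g.left.continuous
  obtain ⟨_, ⟨f, rfl⟩, hpf, hfW⟩ :=
    PrimeSpectrum.isTopologicalBasis_basic_opens.exists_subset_of_mem_open (u := g.left.base ⁻¹' Set.range v.left.base) hp hW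
  refine ⟨f, hpf, ?_⟩
  let jf := ptMap (IsScalarTower.toAlgHom R B (Localization.Away f))
  have hr : Set.range (jf ≫ g).left.base ⊆ Set.range v.left.base := by
    rintro _ ⟨q, rfl⟩
    refine hfW (?_ : jf.left.base q ∈ (PrimeSpectrum.basicOpen f : Set (PrimeSpectrum B)))
    rw [← PrimeSpectrum.localization_away_comap_range (Localization.Away f) f]
    exact ⟨q, rfl⟩
  obtain ⟨φ, hφ⟩ := exists_ptMap (B := B₀) (B' := Localization.Away f)
    (Over.homMk (IsOpenImmersion.lift v.left (jf ≫ g).left hr) (by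
      rw [← Over.w v, ← Category.assoc, IsOpenImmersion.lift_fac]
      exact Over.w (jf ≫ g)))
  refine ⟨φ, Over.OverMorphism.ext ?_⟩
  rw [← hφ]
  exact (IsOpenImmersion.lift_fac _ _ hr).symm

variable [GrpObj G]

/-- The vectors all of whose translates lie in `M'`. -/
def core (m : GMod G E) (M' : Submodule R E) : Submodule R E where
  carrier := {x | ∀ (B : Type u) [CommRing B] [Algebra R B] (g : pt R B ⟶ G),
    m.ρ B g ((1 : B) ⊗ₜ[R] x) ∈ LinearMap.range (M'.subtype.baseChange B)}
  add_mem' {x y} hx hy := fun B _ _ g => by rw [tmul_add, map_add]; exact add_mem (hx B g) (hy B g)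
  zero_mem' := fun B _ _ g => by simp
  smul_mem' r {x} hx := fun B _ _ g => by
    rw [← smul_tmul, Algebra.smul_def, _root_.mul_one, ← mul_one (algebraMap R B r), ← smul_eq_mul, ← smul_tmul',
      map_smul]
    exact Submodule.smul_mem _ _ (hx B g)

theorem core_le (m : GMod G E) (M' : Submodule R E) : core m M' ≤ M' := by
  intro x hx
  have h := hx R 1
  rw [map_one, LinearEquiv.coe_one, id_eq, mem_range_iff, LinearMap.lTensor_tmul] at h
  have h2 := congrArg (TensorProduct.lid R (E ⧸ M')) h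
  simpa [Submodule.Quotient.mk_eq_zero] using h2

variable {κ : Type} [Finite κ] (B₀ : κ → CommRingCat.{u}) [∀ a, Algebra R (B₀ a)]
  (v : ∀ a, pt R (B₀ a) ⟶ G) [∀ a, IsOpenImmersion (v a).left]
  (hcover : ∀ y : G.left, ∃ a, y ∈ Set.range (v a).left.base)

include hcover in
theorem mem_core_of_charts (m : GMod G E) (M' : Submodule R E) {x : E}
    (hx : ∀ a, m.ρ (B₀ a) (v a) ((1 : B₀ a) ⊗ₜ[R] x) ∈ LinearMap.range (M'.subtype.baseChange (B₀ a))) :
    x ∈ core m M' := by
  intro B _ _ g
  refine mem_range_of_local _ _ fun p => ?_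
  obtain ⟨a, ha⟩ := hcover (g.left.base p)
  obtain ⟨f, hf, φ, hφ⟩ := exists_local_factor g (v a) p ha
  refine ⟨f, hf, ?_⟩
  rw [m.naturality, hφ, Wmap_tmul, map_one]
  have := Wmap_mem_range M' φ (hx a)
  rwa [m.naturality, Wmap_tmul, map_one] at this

include hcover in
/-- The core is stable. -/
theorem core_stable [∀ a, Module.Flat R (B₀ a)] (m : GMod G E) (M' : Submodule R E) (B : Type u) [CommRing B]
    [Algebra R B] (g : pt R B ⟶ G) {x : E} (hx : x ∈ core m M') :
    m.ρ B g ((1 : B) ⊗ₜ[R] x) ∈ LinearMap.range ((core m M').subtype.baseChange B) := by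
  classical
  haveI : Fintype κ := Fintype.ofFinite κ
  let L : ∀ a, E →ₗ[R] (B₀ a) ⊗[R] (E ⧸ M') := fun a =>
    M'.mkQ.lTensor (B₀ a) ∘ₗ ((m.ρ (B₀ a) (v a)).toLinearMap.restrictScalars R) ∘ₗ TensorProduct.mk R (B₀ a) E 1
  have hker : LinearMap.ker (LinearMap.pi L) = core m M' := by
    ext y
    simp only [LinearMap.mem_ker, funext_iff, LinearMap.pi_apply, Pi.zero_apply]
    constructor
    · intro h
      exact mem_core_of_charts B₀ v hcover m M' fun a => (mem_range_iff _ _).2 (h a)
    · intro h a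
      exact (mem_range_iff _ _).1 (h (B₀ a) (v a))
  -- the statement at a chart
  have hchart : ∀ b, m.ρ (B₀ b) (v b) ((1 : B₀ b) ⊗ₜ[R] x) ∈
      LinearMap.range ((core m M').subtype.baseChange (B₀ b)) := by
    intro b
    let z := m.ρ (B₀ b) (v b) ((1 : B₀ b) ⊗ₜ[R] x)
    have hexact : Function.Exact ((core m M').subtype.lTensor (B₀ b)) ((LinearMap.pi L).lTensor (B₀ b)) :=
      Module.Flat.lTensor_exact _ (LinearMap.exact_iff.2 (by rw [hker, Submodule.range_subtype]))
    show z ∈ Set.range ((core m M').subtype.lTensor (B₀ b))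
    rw [← hexact z]
    apply (TensorProduct.piRight R R (B₀ b) (fun a => (B₀ a) ⊗[R] (E ⧸ M'))).injective
    rw [map_zero]
    funext a
    rw [Pi.zero_apply]
    have hpi : ∀ z : (B₀ b) ⊗[R] E, TensorProduct.piRight R R (B₀ b) _ ((LinearMap.pi L).lTensor (B₀ b) z) a =
        (L a).lTensor (B₀ b) z := by
      intro z
      induction z using TensorProduct.induction_on with
      | zero => simp
      | add p q hp hq => simp only [map_add, Pi.add_apply, hp, hq]
      | tmul c e => simp
    rw [hpi]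
    let C := (B₀ b) ⊗[R] (B₀ a)
    let i₁ : B₀ b →ₐ[R] C := Algebra.TensorProduct.includeLeft
    let i₂ : B₀ a →ₐ[R] C := Algebra.TensorProduct.includeRight
    have key : ∀ z : (B₀ b) ⊗[R] E, (TensorProduct.assoc R (B₀ b) (B₀ a) (E ⧸ M')).symm ((L a).lTensor (B₀ b) z) =
        M'.mkQ.lTensor C (m.ρ C (ptMap i₂ ≫ v a) (Wmap i₁ z)) := by
      intro z
      induction z using TensorProduct.induction_on with
      | zero => simp
      | add p q hp hq => simp only [map_add, hp, hq]
      | tmul c e =>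
        rw [LinearMap.lTensor_tmul, Wmap_tmul,
          show i₁ c ⊗ₜ[R] e = i₁ c • ((1 : C) ⊗ₜ[R] e) by rw [smul_tmul', smul_eq_mul, _root_.mul_one], map_smul,
          ← map_one i₂, ← Wmap_tmul, ← m.naturality]
        show _ = M'.mkQ.baseChange C (i₁ c • Wmap i₂ _)
        rw [map_smul]
        simp only [L, LinearMap.comp_apply, TensorProduct.mk_apply, LinearEquiv.coe_coe, LinearMap.coe_restrictScalars]
        induction (m.ρ (B₀ a) (v a)) ((1 : B₀ a) ⊗ₜ[R] e) using TensorProduct.induction_on with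
        | zero => simp
        | add p q hp hq => simp only [map_add, tmul_add, smul_add, hp, hq]
        | tmul d q => simp [i₁, i₂, C, smul_tmul', Algebra.TensorProduct.tmul_mul_tmul]
    apply (TensorProduct.assoc R (B₀ b) (B₀ a) (E ⧸ M')).symm.injective
    rw [map_zero, key, ← mem_range_iff, m.naturality, Wmap_tmul, map_one, ← LinearEquiv.mul_apply, ← map_mul]
    exact hx C _
  refine mem_range_of_local _ _ fun p => ?_
  obtain ⟨b, hb⟩ := hcover (g.left.base p)
  obtain ⟨f, hf, φ, hφ⟩ := exists_local_factor g (v b) p hb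
  refine ⟨f, hf, ?_⟩
  rw [m.naturality, hφ, Wmap_tmul, map_one]
  have := Wmap_mem_range (core m M') φ (hchart b)
  rwa [m.naturality, Wmap_tmul, map_one] at this

/-- Finitely many flat affine charts cover a flat quasi-compact group. -/
theorem exists_charts (G : Over (Spec (CommRingCat.of R))) [Flat G.hom] [QuasiCompact G.hom] :
    ∃ (n : ℕ) (B₀ : Fin n → CommRingCat.{u}) (_ : ∀ a, Algebra R (B₀ a)) (v : ∀ a, pt R (B₀ a) ⟶ G),
      (∀ a, IsOpenImmersion (v a).left) ∧ (∀ a, Module.Flat R (B₀ a)) ∧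
        ∀ y : G.left, ∃ a, y ∈ Set.range (v a).left.base := by
  haveI : CompactSpace ↥G.left := QuasiCompact.compactSpace_of_compactSpace G.hom
  choose U hU hyU using fun y : G.left => (exists_isAffineOpen_mem_and_subset (x := y)
    (U := ⊤) trivial).imp fun U hU => (⟨hU.1, hU.2.1⟩ : IsAffineOpen U ∧ y ∈ U)
  obtain ⟨t, ht⟩ := isCompact_univ.elim_finite_subcover (fun y => (U y : Set G.left)) (fun y => (U y).2)
    (fun y _ => Set.mem_iUnion.2 ⟨y, hyU y⟩)
  choose B₀ hB₀ v hv hvr using fun y : G.left => exists_chart_pt (R := R) (U y) (hU y)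
  let e := t.equivFin.symm
  refine ⟨t.card, fun a => B₀ (e a).1, fun a => hB₀ _, fun a => v (e a).1, fun a => hv _, fun a => ?_, fun y => ?_⟩
  · letI := hB₀ (e a).1
    haveI := hv (e a).1
    have h : Flat (Spec.map (CommRingCat.ofHom (algebraMap R (B₀ (e a).1)))) := by
      rw [show Spec.map (CommRingCat.ofHom (algebraMap R (B₀ (e a).1))) = (v (e a).1).left ≫ G.hom from
        (Over.w (v (e a).1)).symm]
      infer_instance
    rw [HasRingHomProperty.Spec_iff (P := @Flat)] at h
    exact RingHom.flat_algebraMap_iff.1 h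
  · obtain ⟨y', hy', hy⟩ := Set.mem_iUnion₂.1 (ht (Set.mem_univ y))
    refine ⟨t.equivFin ⟨y', hy'⟩, ?_⟩
    show y ∈ Set.range (v (t.equivFin.symm (t.equivFin ⟨y', hy'⟩)).1).left.base
    rw [hvr, Equiv.symm_apply_apply]
    exact hy

end GrothLib.GModStable14
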